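import Cfsg.Agent.H561.D4.Boxes
import Cfsg.Agent.H93.UG.AutCard
import Cfsg.Agent.H912.ExcList
import Cfsg.Agent.H912.CrossList
import Cfsg.Agent.H912.KnownSplit
import Cfsg.Agent.H936.AltBig2
import Cfsg.Agent.H936.F42Light
import Cfsg.Agent.H95.LSx.Uni
import Cfsg.Agent.H95.LSx.Tits
import Cfsg.Agent.H498.SporOut
import Cfsg.Agent.H437.Spor
import Cfsg.Agent.H979.LieSplit
import Cfsg.Agent.H580.LieBad
import Cfsg.Agent.UGT.U2.Rec.Congr
import Cfsg.Agent.S0254
import Cfsg.Agent.S0256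
import Cfsg.Agent.S0822
import Cfsg.Agent.S2119

/-!
# S4311, `PΩ₈⁺(q)`: BOX C2 (helper294)

`boxC2_of` : BOX C2, if the finite simple groups are known.  The list of the simple groups having a faithful central
extension by a group of order `2` in degree `8` (cross characteristic), and the numbers.
-/

set_option autoImplicit false
set_option linter.unusedSectionVars false

namespace Cfsg.Agent.H294.D4

open Cfsg Subgroup Cfsg.Agent.H912.Bd Cfsg.Agent.H203.LS
open scoped commutatorElement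

/-! ### The numbers -/

/-- computing the `p`-adic valuation -/
def vl (p : ℕ) : ℕ → ℕ → ℕ
  | 0, _ => 0
  | k + 1, n => if n % p = 0 then vl p k (n / p) + 1 else 0

theorem vl_eq {p : ℕ} (hp : p.Prime) : ∀ (k n : ℕ), n ≠ 0 → n < p ^ k → vl p k n = n.factorization p := by
  intro k
  induction k with
  | zero =>
    intro n hn h
    rw [pow_zero] at h
    omega
  | succ k ih =>
    intro n hn h
    unfold vl
    split_ifs with h1
    · obtain ⟨m, rfl⟩ := Nat.dvd_of_mod_eq_zero h1
      have hm : m ≠ 0 := by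
        rintro rfl
        exact hn (mul_zero _)
      rw [Nat.mul_div_cancel_left _ hp.pos, ih m hm (by
        rw [pow_succ, mul_comm] at h
        exact lt_of_mul_lt_mul_right h (Nat.zero_le p)), Nat.factorization_mul hp.ne_zero hm, Finsupp.add_apply,
        hp.factorization_self, add_comm]
    · rw [Nat.factorization_eq_zero_of_not_dvd]
      exact fun h2 => h1 (Nat.mod_eq_zero_of_dvd h2)

/-- the numbers of BOX C2 -/
def Num (n : ℕ) : Prop :=
  (∃ b, 3 ≤ b ∧ n.factorization 2 = 4 * b) ∧ ∃ a, 1 ≤ a ∧ n.factorization 3 = 4 * a + 1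

theorem Num.ne_zero {n : ℕ} (h : Num n) : n ≠ 0 := by
  rintro rfl
  obtain ⟨b, hb, h1⟩ := h.1
  rw [Nat.factorization_zero, Finsupp.zero_apply] at h1
  omega

theorem Num.check {n : ℕ} (h : Num n) (k : ℕ) (hn : n < 2 ^ k) :
    (12 ≤ vl 2 k n ∧ vl 2 k n % 4 = 0) ∧ 5 ≤ vl 3 k n ∧ vl 3 k n % 4 = 1 := by
  rw [vl_eq Nat.prime_two k n h.ne_zero hn,
    vl_eq Nat.prime_three k n h.ne_zero (hn.trans_le (Nat.pow_le_pow_left (by norm_num) k))]
  obtain ⟨b, hb, h1⟩ := h.1
  obtain ⟨a, ha, h2⟩ := h.2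
  omega

theorem Num.dvd {n N : ℕ} (h : Num n) (hd : n ∣ N) : 995328 ∣ N := by
  obtain ⟨b, hb, h1⟩ := h.1
  obtain ⟨a, ha, h2⟩ := h.2
  have h3 : 2 ^ 12 ∣ n := (Nat.prime_two.pow_dvd_iff_le_factorization h.ne_zero).2 (by omega)
  have h4 : 3 ^ 5 ∣ n := (Nat.prime_three.pow_dvd_iff_le_factorization h.ne_zero).2 (by omega)
  have h5 : 2 ^ 12 * 3 ^ 5 ∣ n := Nat.Coprime.mul_dvd_of_dvd_of_dvd (by norm_num) h3 h4
  exact (by simpa using h5 : 995328 ∣ n).trans hd

theorem Num.kill {n N : ℕ} (h : Num n) (hd : n ∣ N) (h0 : 0 < N) (hN : N < 995328) : False :=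
  absurd (Nat.le_of_dvd h0 (h.dvd hd)) (by omega)

/-! ### The group `X` between `T` and `Aut T` -/

theorem card_dvd_aut {X : Type*} [Group X] [Finite X] (T : Subgroup X) [T.Normal]
    (hc : ∀ g : X, (∀ t ∈ T, g * t = t * g) → g = 1) : Nat.card X ∣ Nat.card (MulAut T) := by
  have hfin : Finite (MulAut T) :=
    Finite.of_injective (fun σ : MulAut T => (σ : T → T)) DFunLike.coe_injective
  refine Subgroup.card_dvd_of_injective (MulAut.conjNormal : X →* MulAut T) ?_
  rw [injective_iff_map_eq_one]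
  intro g hg
  refine hc g fun t ht => ?_
  have h1 := congrArg (Subtype.val) (DFunLike.congr_fun hg ⟨t, ht⟩)
  rw [MulAut.conjNormal_apply, MulAut.one_apply] at h1
  exact mul_inv_eq_iff_eq_mul.1 h1

theorem card_aut {T : Type*} [Group T] [Finite T] [IsSimpleGroup T] (hna : ¬ IsMulCommutative T) :
    Nat.card (MulAut T) = Nat.card T * (MulAut.conj : T →* MulAut T).range.index := by
  have hz : center T = ⊥ := by
    rcases (inferInstance : (center T).Normal).eq_bot_or_eq_top with h | h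
    · exact h
    · exact absurd ⟨⟨fun a b => ((Subgroup.mem_center_iff.1 (h ▸ mem_top b : b ∈ center T)) a)⟩⟩ hna
  have hinj : Function.Injective (MulAut.conj : T →* MulAut T) := by
    rw [injective_iff_map_eq_one]
    intro g hg
    have h1 : g ∈ center T := by
      rw [Subgroup.mem_center_iff]
      intro t
      have := DFunLike.congr_fun hg t
      rw [MulAut.conj_apply, MulAut.one_apply] at this
      exact (mul_inv_eq_iff_eq_mul.1 this).symm
    rwa [hz, Subgroup.mem_bot] at h1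
  rw [← Subgroup.card_mul_index (MulAut.conj : T →* MulAut T).range,
    ← Nat.card_congr (MonoidHom.ofInjective hinj).toEquiv]

/-- **The sporadic groups do not occur.** -/
theorem not_spor {T : Type} [Group T] [Finite T] [IsSimpleGroup T] (hna : ¬ IsMulCommutative T)
    (h : IsSporadicGroup T) {n : ℕ} (hn : Num n) (h1 : Nat.card T ∣ n) (h2 : n ∣ Nat.card (MulAut T)) : False := by
  have h3 := Cfsg.Agent.H498.SporOut.index_le_two h
  have h4 := Cfsg.Agent.H437.spor_mem (Or.inr h)
  rw [card_aut hna] at h2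
  set i := (MulAut.conj : T →* MulAut T).range.index with hi
  set N := Nat.card T with hN
  have hN0 : N ≠ 0 := Nat.card_pos.ne'
  have hi0 : i ≠ 0 := by
    have hfin : Finite (MulAut T) :=
      Finite.of_injective (fun σ : MulAut T => (σ : T → T)) DFunLike.coe_injective
    exact Subgroup.index_ne_zero_of_finite
  clear_value i N
  obtain ⟨k, rfl⟩ := h1
  have h5 : k ∣ i := Nat.dvd_of_mul_dvd_mul_left (Nat.pos_of_ne_zero hN0) h2
  have h6 : k = 1 ∨ k = 2 := by
    have h7 := Nat.le_of_dvd (Nat.pos_of_ne_zero hi0) h5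
    have h8 : k ≠ 0 := by
      rintro rfl
      exact hn.ne_zero (mul_zero _)
    omega
  have key : ∀ N ∈ Cfsg.Agent.H437.sporList, ∀ k ∈ [1, 2], N * k < 2 ^ 200 ∧
      ¬ ((12 ≤ vl 2 200 (N * k) ∧ vl 2 200 (N * k) % 4 = 0) ∧ 5 ≤ vl 3 200 (N * k) ∧ vl 3 200 (N * k) % 4 = 1) := by
    decide +kernel
  obtain ⟨h9, h10⟩ := key N h4 k (by simp [h6])
  exact h10 (hn.check 200 h9)

/-! ### Covers of degree `8` -/

/-- a faithful representation of degree `8` of a central extension of `T` by a group of order `2` -/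
def Cov (F : Type) [Field F] (T : Type) [Group T] : Prop :=
  ∃ (L : Type) (_ : Group L) (f : L →* T) (ρ : L →* Matrix.GeneralLinearGroup (Fin 8) F), Function.Surjective f ∧
      (∀ x, f x = 1 → ∀ y, x * y = y * x) ∧ Nat.card f.ker = 2 ∧ Function.Injective ρ

theorem commutator_top {T : Type*} [Group T] [IsSimpleGroup T] (hna : ¬ IsMulCommutative T) : commutator T = ⊤ := by
  rcases (inferInstance : (commutator T).Normal).eq_bot_or_eq_top with h | h
  · refine absurd ⟨⟨fun a b => ?_⟩⟩ hna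
    have h1 : ⁅a, b⁆ ∈ commutator T := commutator_mem_commutator (mem_top a) (mem_top b)
    rw [h, Subgroup.mem_bot, commutatorElement_eq_one_iff_mul_comm] at h1
    exact h1
  · exact h

section cover

variable {L T : Type*} [Group L] [Group T] {f : L →* T}

theorem sur_comm (hf : Function.Surjective f) (hT : commutator T = ⊤) (t : T) : ∃ d ∈ commutator L, f d = t := by
  have h1 : (commutator L).map f = ⊤ := by
    rw [_root_.commutator_def, Subgroup.map_commutator, ← MonoidHom.range_eq_map,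
      MonoidHom.range_eq_top.2 hf, ← _root_.commutator_def, hT]
  have h2 : t ∈ (commutator L).map f := by rw [h1]; exact mem_top t
  exact h2

/-- the derived group of a central extension of a perfect group is perfect -/
theorem perfect_comm (hf : Function.Surjective f) (hc : ∀ x, f x = 1 → ∀ y, x * y = y * x) (hT : commutator T = ⊤) :
    commutator (commutator L) = ⊤ := by
  have key : commutator L ≤ ⁅commutator L, commutator L⁆ := by
    conv_lhs => rw [_root_.commutator_def]
    rw [Subgroup.commutator_le]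
    intro x _ y _
    obtain ⟨d, hd, hdx⟩ := sur_comm hf hT (f x)
    obtain ⟨e, he, hey⟩ := sur_comm hf hT (f y)
    have hz : ∀ w, (x * d⁻¹) * w = w * (x * d⁻¹) := hc _ (by rw [map_mul, map_inv, hdx, mul_inv_cancel])
    have hw : ∀ w, (y * e⁻¹) * w = w * (y * e⁻¹) := hc _ (by rw [map_mul, map_inv, hey, mul_inv_cancel])
    have h1 : ⁅x, y⁆ = ⁅d, e⁆ := by
      have hx : x = (x * d⁻¹) * d := by group
      have hy : y = (y * e⁻¹) * e := by group
      generalize x * d⁻¹ = z at hz hx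
      generalize y * e⁻¹ = w at hw hy
      subst hx
      subst hy
      rw [commutatorElement_def, commutatorElement_def]
      calc z * d * (w * e) * (z * d)⁻¹ * (w * e)⁻¹
          = z * (d * w) * e * (d⁻¹ * z⁻¹) * (e⁻¹ * w⁻¹) := by group
        _ = z * (w * d) * e * (d⁻¹ * z⁻¹) * (e⁻¹ * w⁻¹) := by rw [← hw d]
        _ = (z * (w * d * e * d⁻¹)) * z⁻¹ * (e⁻¹ * w⁻¹) := by group
        _ = ((w * d * e * d⁻¹) * z) * z⁻¹ * (e⁻¹ * w⁻¹) := by rw [← hz]
        _ = (w * (d * e * d⁻¹ * e⁻¹)) * w⁻¹ := by group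
        _ = ((d * e * d⁻¹ * e⁻¹) * w) * w⁻¹ := by rw [← hw]
        _ = d * e * d⁻¹ * e⁻¹ := by group
    rw [h1]
    exact commutator_mem_commutator hd he
  have h2 : ⁅commutator L, commutator L⁆ = commutator L := le_antisymm (Subgroup.commutator_le_self _) key
  exact Cfsg.Agent.H912.Bd.commutator_eq_top h2

end cover

section list

variable {F : Type} [Field F] [Finite F] {T : Type} [Group T] [IsSimpleGroup T]

theorem Cov.le_of_ls (h : Cov F T) (hna : ¬ IsMulCommutative T) {r d : ℕ} (hr : (r : F) ≠ 0)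
    (hls : LS.{0, 0, 0} r d T) : d ≤ 8 := by
  obtain ⟨L, _, f, ρ, hf, hc, -, hρ⟩ := h
  have hT := commutator_top hna
  have hfin : Finite L := Finite.of_injective ρ hρ
  refine hls (commutator L) (f.comp (commutator L).subtype) ?_ ?_ (perfect_comm hf hc hT) F hr 8
    (ρ.comp (commutator L).subtype) ?_
  · intro t
    obtain ⟨d, hd, h1⟩ := sur_comm hf hT t
    exact ⟨⟨d, hd⟩, h1⟩
  · intro x hx
    rw [Subgroup.mem_center_iff]
    intro y
    exact (Subtype.ext (hc x hx y)).symm
  · intro h1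
    obtain ⟨t, ht⟩ := exists_ne (1 : T)
    obtain ⟨d, hd, h2⟩ := sur_comm hf hT t
    apply ht
    have h3 : ρ d = ρ 1 := by
      rw [map_one]
      exact DFunLike.congr_fun h1 ⟨d, hd⟩
    rw [← h2, hρ h3, map_one]

theorem Cov.pr_odd (h : Cov F T) {r : ℕ} (hr : r.Prime) (h2 : r ≠ 2) : PR F 8 r T := by
  obtain ⟨L, _, f, ρ, hf, hc, hk, hρ⟩ := h
  refine ⟨L, inferInstance, f, ρ, hf, hc, ?_, ?_⟩
  · rw [hk, Nat.coprime_primes Nat.prime_two hr]
    exact h2.symm
  · rw [(MonoidHom.ker_eq_bot_iff ρ).2 hρ]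
    exact bot_le

theorem Cov.pr_two (h : Cov F T) (hna : ¬ IsMulCommutative T) (hN : NoR.{0} 2 T) : PR F 8 2 T := by
  obtain ⟨L, _, f, ρ, hf, hc, hk, hρ⟩ := h
  have hT := commutator_top hna
  have hs : Function.Surjective (f.comp (commutator L).subtype) := by
    intro t
    obtain ⟨d, hd, h1⟩ := sur_comm hf hT t
    exact ⟨⟨d, hd⟩, h1⟩
  have hcc : (f.comp (commutator L).subtype).ker ≤ center (commutator L) := by
    intro x hx
    rw [Subgroup.mem_center_iff]
    intro y
    exact (Subtype.ext (hc x hx y)).symm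
  refine ⟨commutator L, inferInstance, f.comp (commutator L).subtype, ρ.comp (commutator L).subtype, hs,
    fun x hx y => Subtype.ext (hc x hx y), hN _ (perfect_comm hf hc hT) _ hs hcc, ?_⟩
  rw [(MonoidHom.ker_eq_bot_iff _).2 (show Function.Injective (ρ.comp (commutator L).subtype) from
    fun x y hxy => Subtype.ext (hρ hxy))]
  exact bot_le

theorem ls_aux {G : Type} [Group G] (H : Subgroup G) {S : Type} [Group S] (e : Nonempty (S ≃* H))
    (h : LS.{0, 0, 0} 2 16 H) : LS.{0, 0, 0} 2 16 S := LS.congr e.some.symm h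

theorem ls_tits {S : Type} [Group S] (h : Lie.IsoTits S) : LS.{0, 0, 0} 2 16 S :=
  ls_aux (_root_.commutator (Lie.twistedF4 (ZMod 2) 1)) h Cfsg.Agent.H95.LSx.Tits.ls

/-- the exceptional groups -/
theorem exc8 (h : Cov F T) (hna : ¬ IsMulCommutative T) {r : ℕ} (hr : r.Prime) (hrF : (r : F) ≠ 0)
    (hE : Cfsg.Agent.H912.Five.ExcL r T) : Cfsg.Agent.H912.Bd.IsG2 3 T ∨ Cfsg.Agent.H912.Bd.IsG2 4 T ∨ IsSz8 T := by
  have key : ∀ {d : ℕ} {T' : Type} [Group T'], LS.{0, 0, 0} r d T' → (T ≃* T') → d ≤ 8 := by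
    intro d T' _ hls e'
    exact h.le_of_ls hna hrF (LS.congr e'.symm hls)
  rcases hE with ⟨K, _, _, _, h⟩ | ⟨K, _, _, _, q, hq, h⟩ | ⟨rfl, K, _, _, m, hm, hK, ⟨e'⟩⟩ |
    ⟨rfl, K, _, _, m, hm, hK, ⟨e'⟩⟩ | ⟨rfl, K, _, _, m, hm, hK, ⟨e'⟩⟩
  · have : Fact r.Prime := ⟨hr⟩
    have hd : r ∣ Fintype.card K := char_dvd_card K
    have hq2 : 2 ≤ Nat.card K := by
      rw [Nat.card_eq_fintype_card]
      exact Fintype.one_lt_card
    rcases h with ⟨h3, ⟨e'⟩⟩ | ⟨⟨e'⟩⟩ | ⟨⟨e'⟩⟩ | ⟨⟨e'⟩⟩ | ⟨⟨e'⟩⟩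
    · by_cases h4 : Fintype.card K = 4
      · exact Or.inr (Or.inl ⟨K, inferInstance, inferInstance, h4, ⟨e'⟩⟩)
      · have h1 := key (G2.ls K (by rw [Nat.card_eq_fintype_card]; omega)
          (by rw [Nat.card_eq_fintype_card]; exact h4)) e'
        rw [Nat.card_eq_fintype_card] at h1
        have h5 : Fintype.card K < 5 := by
          by_contra hcon
          have h6 : 4 * 5 ≤ (Fintype.card K - 1) * Fintype.card K := Nat.mul_le_mul (by omega) (by omega)
          omega
        have h6 : Fintype.card K = 3 := by omega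
        exact Or.inl ⟨K, inferInstance, inferInstance, h6, ⟨e'⟩⟩
    · exfalso
      by_cases h2 : (2 : K) = 0
      · by_cases h3 : 2 < Nat.card K
        · have h1 := key (F4even.ls_even K h2 h3) e'
          have := Cfsg.Agent.H912.Five.mul_pow_lb hq2 (le_refl 4)
          omega
        · have h4 : Fintype.card K = 2 := by rw [← Nat.card_eq_fintype_card]; omega
          have hr2 : r = 2 := (Nat.prime_dvd_prime_iff_eq hr Nat.prime_two).1 (by rw [h4] at hd; exact hd)
          subst hr2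
          have := key (Cfsg.Agent.H936.F42.ls_f4_two h4) e'
          omega
      · have h1 := key (F4odd.ls_odd K h2) e'
        have := Cfsg.Agent.H912.Five.mul_pow_lb hq2 (le_refl 4)
        omega
    · have h1 := key (E6.ls K) e'
      have := Cfsg.Agent.H912.Five.mul_pow_lb hq2 (show 4 ≤ 10 by norm_num)
      omega
    · have h1 := key (E7.ls K) e'
      have := Cfsg.Agent.H912.Five.mul_pow_lb hq2 (show 4 ≤ 16 by norm_num)
      omega
    · have h1 := key (E8.ls K) e'
      have := Cfsg.Agent.H912.Five.mul_pow_lb hq2 (show 4 ≤ 28 by norm_num)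
      omega
  · exfalso
    have hq2 : 2 ≤ q := hq.two_le
    rcases h with ⟨hK, ⟨e'⟩⟩ | ⟨hK, ⟨e'⟩⟩
    · have h1 := key (TwE6.ls hq hK) e'
      have := Cfsg.Agent.H912.Five.mul_pow_lb hq2 (show 4 ≤ 6 by norm_num)
      omega
    · have h1 := key (TwD4.ls hq hK) e'
      have := Cfsg.Agent.H912.Five.mul_pow_lb hq2 (le_refl 4)
      omega
  · have h1 := key (LS.sz hm hK) e'
    rw [Nat.card_eq_fintype_card, hK] at h1
    have h2 : m < 2 := by
      by_contra hcon
      have : 2 ^ 5 ≤ 2 ^ (2 * m + 1) := Nat.pow_le_pow_right (by norm_num) (by omega)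
      omega
    have h3 : m = 1 := by omega
    subst h3
    exact Or.inr (Or.inr ⟨K, inferInstance, inferInstance, hK, ⟨e'⟩⟩)
  · exfalso
    have h1 := key (TwF4.ls hm hK) e'
    rw [Nat.card_eq_fintype_card, hK] at h1
    have h2 : 2 ^ 3 ≤ 2 ^ (2 * m + 1) := Nat.pow_le_pow_right (by norm_num) (by omega)
    have h3 : 7 * 8 ^ 2 ≤ (2 ^ (2 * m + 1) - 1) * (2 ^ (2 * m + 1)) ^ 2 :=
      Nat.mul_le_mul (by omega) (Nat.pow_le_pow_left (by omega) 2)
    omega
  · exfalso
    have h1 := key (LS.ree hm hK) e'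
    rw [Nat.card_eq_fintype_card, hK] at h1
    have h2 : 3 ^ 3 ≤ 3 ^ (2 * m + 1) := Nat.pow_le_pow_right (by norm_num) (by omega)
    omega

/-! ### The kills -/

section kill

variable {n : ℕ} (hn : Num n) (h2 : n ∣ Nat.card (MulAut T))

include hn h2

theorem kill_of {N : ℕ} (hN : Nat.card (MulAut T) = N) (hd : ¬ 995328 ∣ N) : False := hd (hn.dvd (hN ▸ h2))

theorem kill_alt {m : ℕ} (h5 : 5 ≤ m) (h11 : m ≤ 11) (e : T ≃* alternatingGroup (Fin m)) : False := by
  by_cases h6 : m = 6
  · subst h6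
    have : Fact (Nat.Prime 3) := ⟨Nat.prime_three⟩
    obtain ⟨L, iL, iLf, hL⟩ : ∃ (L : Type) (_ : Field L) (_ : Fintype L), Fintype.card L = 9 := by
      have : Fintype (GaloisField 3 2) := Fintype.ofFinite _
      refine ⟨GaloisField 3 2, inferInstance, this, ?_⟩
      rw [← Nat.card_eq_fintype_card, GaloisField.card 3 2 (by norm_num)]
      norm_num
    obtain ⟨e'⟩ := Cfsg.Agent.S0254.result hL
    have h := H93.UG.aut_l (m := 2) (q := 9) (p := 3) (f := 2) Nat.prime_three (by norm_num) (by norm_num) le_rfl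
      (by norm_num) (T := T) ⟨L, iL, iLf, hL, ⟨e.trans e'.symm⟩⟩
    refine kill_of hn h2 h ?_
    norm_num [Finset.prod_range_succ]
  · have h : Nat.card (MulAut T) = m.factorial := by
      rw [H93.UG.mulaut_congr e, ← Nat.card_congr (Equiv.ofBijective _ (Cfsg.Agent.S2119.result m (by omega) h6)),
        Nat.card_perm, Nat.card_fin]
    refine kill_of hn h2 h ?_
    interval_cases m <;> decide

theorem kill_l2 {q : ℕ} (h4 : 4 ≤ q) (hq : (q - 1) / Nat.gcd 2 (q - 1) ≤ 8) (h : IsL 2 q T) : False := by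
  have h18 : q ≤ 18 := by
    by_contra hcon
    have h1 : Nat.gcd 2 (q - 1) ≤ 2 := Nat.le_of_dvd (by norm_num) (Nat.gcd_dvd_left _ _)
    have h0 : 0 < Nat.gcd 2 (q - 1) := Nat.gcd_pos_of_pos_left _ (by norm_num)
    have h3 : (q - 1) / 2 ≤ (q - 1) / Nat.gcd 2 (q - 1) := Nat.div_le_div_left h1 h0
    omega
  obtain ⟨r, f, hr, hf, hqf⟩ : ∃ r f, r.Prime ∧ 1 ≤ f ∧ q = r ^ f := by
    obtain ⟨K, iF, iT, hK, -⟩ := h
    obtain ⟨s, hs⟩ := CharP.exists K
    have hsp : s.Prime := CharP.char_is_prime K s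
    have := Fact.mk hsp
    obtain ⟨k, -, hk⟩ := FiniteField.card K s
    exact ⟨s, k, hsp, k.pos, by rw [← hK, hk]⟩
  have hf4 : f ≤ 4 := by
    by_contra hcon
    have h1 : 2 ^ 5 ≤ r ^ f := (Nat.pow_le_pow_left hr.two_le 5).trans (Nat.pow_le_pow_right hr.pos (by omega))
    omega
  have h1 := H93.UG.aut_l hr hf hqf le_rfl (fun _ => h4) h
  simp only [if_true, one_mul, Finset.prod_range_succ, Finset.prod_range_zero] at h1
  have h3 : Nat.card (MulAut T) = f * (q * (q ^ 2 - 1)) := by
    rw [h1]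
    norm_num
  have h5 : q ^ 2 ≤ 18 ^ 2 := Nat.pow_le_pow_left h18 2
  have h6 : 4 ^ 2 ≤ q ^ 2 := Nat.pow_le_pow_left h4 2
  have h7 : f * (q * (q ^ 2 - 1)) ≤ 4 * (18 * 323) := Nat.mul_le_mul hf4 (Nat.mul_le_mul h18 (by omega))
  refine hn.kill (h3 ▸ h2) (Nat.mul_pos (by omega) (Nat.mul_pos (by omega) (by omega))) (by omega)

theorem kill_cl (h : ClSmall 8 T) : IsOP 4 2 T := by
  rcases h with ⟨q, hq4, hq, h⟩ | ⟨h3, h⟩ | ⟨h3, h⟩ | ⟨h3, h⟩ | ⟨h3, h⟩ | ⟨h3, h⟩ | ⟨h3, h⟩ | ⟨h3, h⟩ | ⟨h3, h⟩ |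
    ⟨h3, h⟩ | ⟨h3, h⟩ | ⟨h3, h⟩
  · exact (kill_l2 hn h2 hq4 hq h).elim
  · exfalso
    refine kill_of hn h2 (H93.UG.aut_l Nat.prime_two le_rfl (by norm_num) (by norm_num) (by norm_num) h) ?_
    norm_num [Finset.prod_range_succ]
  · exfalso
    refine kill_of hn h2 (H93.UG.aut_l Nat.prime_three le_rfl (by norm_num) (by norm_num) (by norm_num) h) ?_
    norm_num [Finset.prod_range_succ]
  · exfalso
    refine kill_of hn h2 (H93.UG.aut_l Nat.prime_two le_rfl (by norm_num) (by norm_num) (by norm_num) h) ?_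
    norm_num [Finset.prod_range_succ]
  · exfalso
    refine kill_of hn h2 (H93.UG.aut_u Nat.prime_three le_rfl (by norm_num) (by norm_num) (by norm_num) h) ?_
    simp only [Finset.prod_range_succ, Finset.prod_range_zero]
    norm_num [Nat.even_iff]
  · omega
  · exfalso
    refine kill_of hn h2 (H93.UG.aut_u Nat.prime_two le_rfl (by norm_num) (by norm_num) (by norm_num) h) ?_
    simp only [Finset.prod_range_succ, Finset.prod_range_zero]
    norm_num [Nat.even_iff]
  · exfalso
    refine kill_of hn h2 (H93.UG.aut_u Nat.prime_two le_rfl (by norm_num) (by norm_num) (by norm_num) h) ?_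
    simp only [Finset.prod_range_succ, Finset.prod_range_zero]
    norm_num [Nat.even_iff]
  · exfalso
    refine kill_of hn h2 (H93.UG.aut_s Nat.prime_three le_rfl (by norm_num) (by norm_num) (by norm_num)
      (by norm_num) h) ?_
    norm_num [Finset.prod_range_succ]
  · omega
  · exfalso
    refine kill_of hn h2 (H93.UG.aut_s Nat.prime_two le_rfl (by norm_num) (by norm_num) (by norm_num)
      (by norm_num) h) ?_
    norm_num [Finset.prod_range_succ]
  · exact h

theorem kill_mult (hc : Cov F T) (hna : ¬ IsMulCommutative T) (h2F : ((2 : ℕ) : F) ≠ 0) (h : ExcMult 2 T) :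
    IsOP 4 2 T := by
  rcases h with ⟨-, h⟩ | ⟨h, -⟩
  · rcases h with h | h | h | h | h | h | h | h | h | h | h | h
    · exact (kill_l2 hn h2 le_rfl (by norm_num) h).elim
    · exact kill_cl hn h2 (Or.inr (Or.inl ⟨by norm_num, h⟩))
    · exfalso
      refine kill_of hn h2 (H93.UG.aut_l Nat.prime_two (f := 2) (by norm_num) (by norm_num) (by norm_num)
        (by norm_num) h) ?_
      norm_num [Finset.prod_range_succ]
    · exact kill_cl hn h2 (Or.inr (Or.inr (Or.inr (Or.inl ⟨by norm_num, h⟩))))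
    · exfalso
      refine kill_of hn h2 (H93.UG.aut_u Nat.prime_two le_rfl (by norm_num) (by norm_num) (by norm_num) h) ?_
      simp only [Finset.prod_range_succ, Finset.prod_range_zero]
      norm_num [Nat.even_iff]
    · exfalso
      obtain ⟨K, iK, iKf, hK, ⟨e⟩⟩ := h
      have := hc.le_of_ls hna h2F (LS.congr e.symm (H95.LSx.Uni.ls_u62 (by rw [hK]; norm_num)))
      omega
    · exfalso
      refine kill_of hn h2 (H93.UG.aut_s Nat.prime_two le_rfl (by norm_num) (by norm_num) (by norm_num)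
        (by norm_num) h) ?_
      norm_num [Finset.prod_range_succ]
    · exact h
    · exact (kill_of hn h2 (H93.UG.aut_g24 h) (by norm_num)).elim
    · exfalso
      obtain ⟨K, iK, iKf, hK, ⟨e⟩⟩ := h
      have := hc.le_of_ls hna h2F (LS.congr e.symm (Cfsg.Agent.H936.F42.ls_f4_two hK))
      omega
    · exfalso
      obtain ⟨K, iK, iKf, hK, ⟨e⟩⟩ := h
      have hch : CharP K 2 := charP_of_card_eq_prime_pow (f := 2) hK
      have := hc.le_of_ls hna h2F (LS.congr e.symm (TwE6.ls Nat.prime_two.isPrimePow hK))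
      omega
    · exact (kill_of hn h2 (H93.UG.aut_sz8 h) (by norm_num)).elim
  · omega

/-- **The list and the numbers**: only `Ω₈⁺(2)` is left. -/
theorem only_op {p : ℕ} [CharP F p] (hp : 5 ≤ p) [Finite T] (hna : ¬ IsMulCommutative T) (hk : IsKnownSimple' T)
    (hc : Cov F T) (hpT : ¬ p ∣ Nat.card T) (h1 : Nat.card T ∣ n) : IsOP 4 2 T := by
  have hpp : p.Prime := (CharP.char_is_prime_or_zero F p).resolve_right (by omega)
  have hcast : ∀ {r : ℕ}, r.Prime → r ≠ p → (r : F) ≠ 0 := by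
    intro r hr hrp h0
    exact hrp ((Nat.prime_dvd_prime_iff_eq hpp hr).1 ((CharP.cast_eq_zero_iff F p r).1 h0)).symm
  have h2F : ((2 : ℕ) : F) ≠ 0 := hcast Nat.prime_two (by omega)
  rcases H912.Known.known_split hk (H912.Known.not_primeCyclic hna) with h | ⟨r, hr, h⟩ | h | h
  · obtain ⟨m, hm, ⟨e⟩⟩ := h
    have h5 : p ≠ 5 := by
      rintro rfl
      apply hpT
      have : Nontrivial (Fin m) := Fin.nontrivial_iff_two_le.2 (by omega)
      have h3 := two_mul_nat_card_alternatingGroup (α := Fin m)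
      rw [Nat.card_congr e.toEquiv]
      have h4 : 5 ∣ 2 * Nat.card (alternatingGroup (Fin m)) := by
        rw [h3, Nat.card_perm, Nat.card_fin]
        exact Nat.dvd_factorial (by norm_num) hm
      exact (Nat.Coprime.dvd_mul_left (by norm_num)).1 h4
    have h11 : m ≤ 11 := by
      by_contra hcon
      have := hc.le_of_ls hna (hcast (by norm_num : Nat.Prime 5) h5.symm)
        (LS.congr e.symm (H936.AltBig.ls_five (m := m) (by omega)))
      omega
    exact (kill_alt hn h2 hm h11 e).elim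
  · have hrp : r ≠ p := by
      rintro rfl
      apply hpT
      have := Fact.mk hr
      obtain ⟨P, U, ⟨s, hs⟩, hU⟩ := H979.LieSplit.hasSplit_of_isLieTypeChar hr h
      exact H580.LieBad.dvd_card hU hs
    have hrF := hcast hr hrp
    rcases H912.Five.classical_or_exc h with hcl | hexc
    · by_cases hr2 : r = 2
      · subst hr2
        rcases noR_of_lieTypeChar.{0} hr h with hm | hm
        · exact kill_mult hn h2 hc hna h2F hm
        · exact kill_cl hn h2 (cross_classical hr hrF (hc.pr_two hna hm) (by norm_num) hcl)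
      · exact kill_cl hn h2 (cross_classical hr hrF (hc.pr_odd hr hr2) (by norm_num) hcl)
    · rcases exc8 hc hna hr hrF hexc with h | h | h
      · exact (kill_of hn h2 (H93.UG.aut_g23 h) (by norm_num)).elim
      · exact (kill_of hn h2 (H93.UG.aut_g24 h) (by norm_num)).elim
      · exact (kill_of hn h2 (H93.UG.aut_sz8 h) (by norm_num)).elim
  · exfalso
    have := hc.le_of_ls hna h2F (ls_tits h)
    omega
  · exact (not_spor hna h hn h1 h2).elim

end kill

end list

/-! ### BOX C2 -/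

theorem quadFormPlus_map {F F' : Type*} [Field F] [Field F'] (σ : F ≃+* F') (m : ℕ) (v : Fin m ⊕ Fin m → F) :
    quadFormPlus m F' (σ ∘ v) = σ (quadFormPlus m F v) := by
  simp [quadFormPlus, map_sum, map_mul]

theorem card_op42 {T : Type} [Group T] (h : IsOP 4 2 T) : Nat.card T = 174182400 := by
  obtain ⟨K, iF, iT, hK, ⟨e⟩⟩ := h
  have h1 := Cfsg.Agent.S0293.result hK 4 (by norm_num)
  rw [Nat.card_congr e.toEquiv]
  simp only [Finset.prod_range_succ, Finset.prod_range_zero] at h1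
  norm_num at h1
  exact h1

/-- **BOX C2**, if the finite simple groups are known -/
theorem boxC2_of (hK : ∀ (T : Type) [Group T] [Finite T] [IsSimpleGroup T], IsKnownSimple' T) {F : Type} [Field F]
    [Finite F] {p : ℕ} [CharP F p] (hp : 5 ≤ p) : H561.D4.BoxC2 F := by
  intro X _ _ T hTn hTs hna hc hchar hb ha hcov
  have hn : Num (Nat.card X) := ⟨hb, ha⟩
  have h1 : Nat.card T ∣ Nat.card X := Subgroup.card_subgroup_dvd_card T
  have h2 : Nat.card X ∣ Nat.card (MulAut T) := card_dvd_aut T hc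
  have hpT : ¬ p ∣ Nat.card T := by
    intro h
    exact hchar ((CharP.cast_eq_zero_iff F p _).2 (h.trans h1))
  have hOP := only_op hn h2 hp hna (hK T) hcov hpT h1
  have h3 := card_op42 hOP
  rw [H93.UG.aut_op42 hOP] at h2
  obtain ⟨k, hk⟩ := h1
  rw [hk, h3] at h2
  have h4 : k ∣ 6 := by
    have : 174182400 * k ∣ 174182400 * 6 := by simpa using h2
    exact Nat.dvd_of_mul_dvd_mul_left (by norm_num) this
  have h5 : k ∈ Nat.divisors 6 := Nat.mem_divisors.2 ⟨h4, by norm_num⟩
  have h6 : k = 1 := by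
    have h7 : k = 1 ∨ k = 2 ∨ k = 3 ∨ k = 6 := by
      have : Nat.divisors 6 = {1, 2, 3, 6} := by decide
      rw [this] at h5
      simpa using h5
    rw [hk, h3] at hn
    rcases h7 with rfl | rfl | rfl | rfl
    · rfl
    · have := hn.check 40 (by norm_num)
      revert this
      decide +kernel
    · have := hn.check 40 (by norm_num)
      revert this
      decide +kernel
    · have := hn.check 40 (by norm_num)
      revert this
      decide +kernel
  subst h6
  have hT : T = ⊤ := Subgroup.eq_top_of_card_eq T (by rw [hk, mul_one])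
  obtain ⟨K, iF, iT, hKc, ⟨e⟩⟩ := hOP
  obtain ⟨e'⟩ := UGT.U2.Rec.Congr.nonempty_POmega (ι := Fin 4 ⊕ Fin 4)
    (FiniteField.ringEquivOfCardEq (by rw [hKc, ZMod.card]) : K ≃+* ZMod 2) (quadFormPlus_map _ 4)
  exact ⟨(Subgroup.topEquiv.symm.trans (MulEquiv.subgroupCongr hT.symm)).trans (e.trans e')⟩

end Cfsg.Agent.H294.D4
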