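import Cfsg.Agent.H294.D4.C2
import Cfsg.Agent.S0000

/-!
# S4311, `PΩ₈⁺(q)`: BOX C2, with the classification (helper294)
-/

set_option autoImplicit false

namespace Cfsg.Agent.H294.D4

/-- **BOX C2** -/
theorem boxC2 {F : Type} [Field F] [Finite F] {p : ℕ} [CharP F p] (hp : 5 ≤ p) : Cfsg.Agent.H561.D4.BoxC2 F :=
  boxC2_of (fun T _ _ _ => Cfsg.Agent.S0000.result (G := T)) (p := p) hp

end Cfsg.Agent.H294.D4
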